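import Cfsg.Agent.H600.EightAlt

/-!
# Character degrees of `A_8` and `A_7`
-/

set_option autoImplicit false

namespace Cfsg.Agent.H600.EightAlt

open Finset Cfsg Cfsg.Agent.H614 Cfsg.Agent.Characters.Core Cfsg.Agent.H600.AltDeg Cfsg.Agent.H664.Eight

variable {m : ℕ}

/-- the Vandermonde product -/
def VV (β : Fin m → ℕ) : ℤ := ∏ i : Fin m, ∏ j ∈ Finset.Ioi i, ((β j : ℤ) - β i)

/-- the product of the factorials -/
def PF (β : Fin m → ℕ) : ℤ := ∏ i, ((β i).factorial : ℤ)

/-- the sum for the transposition -/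
def TR (β : Fin m → ℕ) : ℤ := ∑ j, (β j : ℤ) * ((β j : ℤ) - 1) * VV (dn β j 2)

theorem PF_ne (β : Fin m → ℕ) : PF β ≠ 0 := by
  unfold PF
  exact Finset.prod_ne_zero_iff.2 fun i _ => by exact_mod_cast Nat.factorial_ne_zero _

theorem PF_dn {β : Fin m → ℕ} {j : Fin m} (h : 2 ≤ β j) :
    PF β = PF (dn β j 2) * ((β j : ℤ) * ((β j : ℤ) - 1)) := by
  unfold PF
  rw [← Finset.mul_prod_erase _ _ (Finset.mem_univ j),
    ← Finset.mul_prod_erase _ (fun i => ((dn β j 2 i).factorial : ℤ)) (Finset.mem_univ j), dn_self]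
  have h1 : ∀ i ∈ (Finset.univ.erase j), ((dn β j 2 i).factorial : ℤ) = ((β i).factorial : ℤ) := by
    intro i hi
    unfold dn
    rw [Function.update_of_ne (Finset.ne_of_mem_erase hi)]
  rw [Finset.prod_congr rfl h1]
  obtain ⟨k, hk⟩ := Nat.exists_eq_add_of_le h
  rw [hk, show 2 + k = k + 1 + 1 by ring, Nat.factorial_succ, Nat.factorial_succ, show k + 1 + 1 - 2 = k by omega]
  push_cast
  ring

theorem FM_trans {n : ℕ} (β : Fin m → ℕ) (hs : ∑ i, β i = n + 2 + ∑ i : Fin m, (i : ℕ)) :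
    FM (2 ::ₘ Multiset.replicate n 1) β * PF β = n.factorial * TR β := by
  rw [FM_cons, Finset.sum_mul, TR, Finset.mul_sum]
  refine Finset.sum_congr rfl fun j _ => ?_
  by_cases h : 2 ≤ β j
  · rw [if_pos h, PF_dn h]
    have h1 : ∑ i, dn β j 2 i = n + ∑ i : Fin m, (i : ℕ) := by
      have := sum_dn β j h
      omega
    have h2 := FM_ones_formula n (dn β j 2) h1
    have h3 : FM (Multiset.replicate n 1) (dn β j 2) * PF (dn β j 2) = n.factorial * VV (dn β j 2) := h2
    linear_combination ((β j : ℤ) * ((β j : ℤ) - 1)) * h3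
  · rw [if_neg h, zero_mul]
    have h1 : β j = 0 ∨ β j = 1 := by omega
    rcases h1 with h1 | h1 <;> rw [h1] <;> simp

theorem ch_one {n : ℕ} {β : Fin m → ℕ} (hs : ∑ i, β i = n + ∑ i : Fin m, (i : ℕ)) {d : ℕ}
    (hd : (d : ℤ) * PF β = n.factorial * VV β) : ch (Fin n) β 1 = d := by
  have h2 : FM (Multiset.replicate n 1) β * PF β = n.factorial * VV β := FM_ones_formula n β hs
  rw [← hd] at h2
  have h3 := mul_right_cancel₀ (PF_ne β) h2
  rw [ch_apply, ty_one, Fintype.card_fin, h3]
  norm_cast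

theorem ch_trans {n : ℕ} {β : Fin m → ℕ} (hs : ∑ i, β i = n + 2 + ∑ i : Fin m, (i : ℕ)) (ht : TR β ≠ 0) :
    ∃ g : Equiv.Perm (Fin (n + 2)), g ∉ alternatingGroup (Fin (n + 2)) ∧ ch (Fin (n + 2)) β g ≠ 0 := by
  obtain ⟨g, hg⟩ := (Equiv.Perm.exists_with_cycleType_iff (α := Fin (n + 2)) (m := {2})).2
    ⟨by rw [Fintype.card_fin]; simp, by simp⟩
  refine ⟨g, ?_, ?_⟩
  · rw [Equiv.Perm.mem_alternatingGroup, Equiv.Perm.sign_of_cycleType, hg]
    decide
  · intro h
    rw [ch_apply, ty_eq, hg, Fintype.card_fin] at h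
    have h1 : FM (2 ::ₘ Multiset.replicate n 1) β = 0 := by
      have h2 : FM ({2} + Multiset.replicate (n + 2 - Multiset.sum {2}) 1) β = 0 := by exact_mod_cast h
      simpa using h2
    have h2 := FM_trans β hs
    rw [h1, zero_mul] at h2
    rcases mul_eq_zero.1 h2.symm with h3 | h3
    · exact Nat.factorial_ne_zero n (by exact_mod_cast h3)
    · exact ht h3

theorem mem_gen {n : ℕ} {β : Fin m → ℕ} (hβ : StrictMono β) (hs : ∑ i, β i = n + 2 + ∑ i : Fin m, (i : ℕ)) {d : ℕ}
    (hd : (d : ℤ) * PF β = (n + 2).factorial * VV β) (ht : TR β ≠ 0) :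
    d ∈ charDegrees (alternatingGroup (Fin (n + 2))) := by
  have : Nontrivial (Fin (n + 2)) := Fin.nontrivial_iff_two_le.2 (by omega)
  have hs' : ∑ i, β i = Fintype.card (Fin (n + 2)) + ∑ i : Fin m, (i : ℕ) := by rw [Fintype.card_fin]; exact hs
  have hχ := isIrr_ch hβ hs'
  obtain ⟨θ, hθ⟩ := exists_constituent (alternatingGroup (Fin (n + 2))) hχ
  rcases degree_two (alternatingGroup (Fin (n + 2))) alternatingGroup.index_eq_two hχ θ.2 hθ with h | ⟨-, h⟩
  · refine ⟨θ, ?_⟩
    rw [← h]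
    exact Blocks.Knorr.charDegree_of_natCast (ch_one hs hd)
  · obtain ⟨g, hg, hg'⟩ := ch_trans hs ht
    exact absurd (h g hg) hg'

theorem eight_eight : Eight (alternatingGroup (Fin 8)) := by
  refine eight_of_list [1, 7, 14, 20, 21, 28, 56, 64] (by decide) (by simp) ?_
  intro d hd
  simp only [List.mem_cons, List.not_mem_nil, or_false] at hd
  rcases hd with rfl | rfl | rfl | rfl | rfl | rfl | rfl | rfl
  · exact one_mem
  · exact mem_gen (n := 6) (β := ![0, 2, 9]) (by decide) (by decide) (by decide +kernel) (by decide +kernel)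
  · exact mem_gen (n := 6) (β := ![0, 5, 6]) (by decide) (by decide) (by decide +kernel) (by decide +kernel)
  · exact mem_gen (n := 6) (β := ![0, 3, 8]) (by decide) (by decide) (by decide +kernel) (by decide +kernel)
  · exact mem_gen (n := 6) (β := ![1, 2, 8]) (by decide) (by decide) (by decide +kernel) (by decide +kernel)
  · exact mem_gen (n := 6) (β := ![0, 4, 7]) (by decide) (by decide) (by decide +kernel) (by decide +kernel)
  · exact mem_gen (n := 6) (β := ![2, 3, 6]) (by decide) (by decide) (by decide +kernel) (by decide +kernel)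
  · exact mem_gen (n := 6) (β := ![1, 3, 7]) (by decide) (by decide) (by decide +kernel) (by decide +kernel)

/-- The alternating groups of degree at least eight have at least eight character degrees. -/
theorem eight_alt {n : ℕ} (hn : 8 ≤ n) : Eight (alternatingGroup (Fin n)) := by
  rcases Nat.lt_or_ge n 10 with h | h
  · rcases (by omega : n = 8 ∨ n = 9) with rfl | rfl
    · exact eight_eight
    · exact eight_nine
  · obtain ⟨m, rfl⟩ := Nat.exists_eq_add_of_le h
    rw [Nat.add_comm]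
    exact eight_large m

end Cfsg.Agent.H600.EightAlt
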