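import Cfsg.Agent.H600.AltRow
import Cfsg.Agent.H33.IM

/-!
# Itô-Michler for the alternating groups (task DEG-1)
-/

set_option autoImplicit false

namespace Cfsg.Agent.H600.AltDeg

theorem im_alt {n : ℕ} (hn : 5 ≤ n) {p : ℕ} [Fact p.Prime] (h : p ∣ Nat.card (alternatingGroup (Fin n))) :
    Cfsg.Agent.H33.IM p (alternatingGroup (Fin n)) :=
  im_alt' hn Fact.out h

end Cfsg.Agent.H600.AltDeg
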