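import Cfsg.Agent.H600.EightSeven
import Cfsg.Agent.CharDeep.PowerDegrees

/-!
# The character degrees of `A_7`
-/

set_option autoImplicit false

namespace Cfsg.Agent.H600.EightAlt

open Finset Cfsg Cfsg.Agent.H614 Cfsg.Agent.Characters.Core Cfsg.Agent.H600.AltDeg Cfsg.Agent.H664.Eight

/-- the sum of the squares of different degrees -/
theorem sum_sq_le {S : Type*} [Group S] [Finite S] (D : Finset ℕ) (h : ∀ d ∈ D, d ∈ charDegrees S) :
    ∑ d ∈ D, d ^ 2 ≤ Nat.card S := by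
  classical
  have : Finite (IrrCharacter S) := finite_irr
  let _ : Fintype (IrrCharacter S) := Fintype.ofFinite _
  have h' : ∀ d : {d // d ∈ D}, ∃ χ : IrrCharacter S, charDegree (χ : S → ℂ) = d := fun d => h d.1 d.2
  choose f hf using h'
  have hinj : Function.Injective f := by
    intro a b hab
    apply Subtype.ext
    rw [← hf a, ← hf b, hab]
  have hsq : ∑ χ : IrrCharacter S, charDegree (χ : S → ℂ) ^ 2 = Nat.card S := by
    have h1 := Cfsg.Agent.CharDeep.PowerDegrees.sum_sq (G := S)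
    have h2 : ((∑ χ : IrrCharacter S, charDegree (χ : S → ℂ) ^ 2 : ℕ) : ℂ) = (Nat.card S : ℂ) := by
      rw [← h1]
      push_cast
      refine Finset.sum_congr rfl fun χ _ => ?_
      rw [(charDegree_pos χ.2).2]
    exact_mod_cast h2
  rw [← hsq, ← Finset.sum_attach, Finset.attach_eq_univ]
  calc ∑ d : {d // d ∈ D}, (d : ℕ) ^ 2 = ∑ d : {d // d ∈ D}, charDegree (f d : S → ℂ) ^ 2 :=
        Finset.sum_congr rfl fun d _ => by rw [hf]
    _ = ∑ χ ∈ Finset.univ.map ⟨f, hinj⟩, charDegree (χ : S → ℂ) ^ 2 := by rw [Finset.sum_map]; rfl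
    _ ≤ _ := Finset.sum_le_sum_of_subset (Finset.subset_univ _)

/-- the property checked for the partitions of seven -/
def GoodB (β : Fin 7 → ℕ) : Prop :=
  (∃ d ∈ ([1, 6, 14, 15, 21, 35] : List ℕ), (d : ℤ) * PF β = ((7 : ℕ).factorial : ℤ) * VV β ∧ TR β ≠ 0) ∨
    ((20 : ℕ) : ℤ) * PF β = ((7 : ℕ).factorial : ℤ) * VV β

instance (β : Fin 7 → ℕ) : Decidable (GoodB β) := by unfold GoodB; infer_instance

set_option synthInstance.maxHeartbeats 400000 in
theorem good_all : ∀ (l0 l1 l2 l3 : Fin 2) (l4 : Fin 3) (l5 : Fin 4) (l6 : Fin 8),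
    ((l0 : ℕ) ≤ l1 ∧ (l1 : ℕ) ≤ l2 ∧ (l2 : ℕ) ≤ l3 ∧ (l3 : ℕ) ≤ l4 ∧ (l4 : ℕ) ≤ l5 ∧ (l5 : ℕ) ≤ l6 ∧
      (l0 : ℕ) + l1 + l2 + l3 + l4 + l5 + l6 = 7) →
      GoodB ![(l0 : ℕ), (l1 : ℕ) + 1, (l2 : ℕ) + 2, (l3 : ℕ) + 3, (l4 : ℕ) + 4, (l5 : ℕ) + 5, (l6 : ℕ) + 6] := by
  decide +kernel

theorem good_of {β : Fin 7 → ℕ} (hβ : StrictMono β) (hs : ∑ i, β i = 7 + ∑ i : Fin 7, (i : ℕ)) : GoodB β := by
  have h0 : β 0 < β 1 := hβ (by decide)
  have h1 : β 1 < β 2 := hβ (by decide)
  have h2 : β 2 < β 3 := hβ (by decide)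
  have h3 : β 3 < β 4 := hβ (by decide)
  have h4 : β 4 < β 5 := hβ (by decide)
  have h5 : β 5 < β 6 := hβ (by decide)
  have hs1 : β 0 + β 1 + β 2 + β 3 + β 4 + β 5 + β 6 = 28 := by
    have e : ∑ i : Fin 7, (i : ℕ) = 21 := by decide
    rw [e, Fin.sum_univ_seven] at hs
    omega
  have h := good_all ⟨β 0, by omega⟩ ⟨β 1 - 1, by omega⟩ ⟨β 2 - 2, by omega⟩ ⟨β 3 - 3, by omega⟩
    ⟨β 4 - 4, by omega⟩ ⟨β 5 - 5, by omega⟩ ⟨β 6 - 6, by omega⟩ (by simp only; omega)
  have e : ![β 0, β 1 - 1 + 1, β 2 - 2 + 2, β 3 - 3 + 3, β 4 - 4 + 4, β 5 - 5 + 5, β 6 - 6 + 6] = β := by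
    funext i
    fin_cases i <;> simp <;> omega
  rwa [e] at h

theorem deg_or {d : ℕ} (hd : d ∈ charDegrees (alternatingGroup (Fin 7))) :
    d ∈ ([1, 6, 14, 15, 21, 35] : List ℕ) ∨ d = 10 ∨ d = 20 := by
  obtain ⟨θ, rfl⟩ := hd
  obtain ⟨χ, hχθ⟩ := Blocks.Over.exists_over (alternatingGroup (Fin 7)) θ
  obtain ⟨β, hβ, hs, hχ⟩ := irr_eq (α := Fin 7) (m := 7) (by simp) χ.2
  rw [Fintype.card_fin] at hs
  have hdt := degree_two (alternatingGroup (Fin 7)) alternatingGroup.index_eq_two χ.2 θ.2 hχθ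
  rcases good_of hβ hs with ⟨d, hd, h1, h2⟩ | h1
  · have h3 : charDegree (χ : Equiv.Perm (Fin 7) → ℂ) = d := by
      rw [hχ]
      exact Blocks.Knorr.charDegree_of_natCast (ch_one hs h1)
    rcases hdt with h4 | ⟨-, h4⟩
    · left
      rw [← h4, h3]
      exact hd
    · obtain ⟨g, hg, hg'⟩ := ch_trans (n := 5) (β := β) hs h2
      rw [hχ] at h4
      exact absurd (h4 g hg) hg'
  · have h3 : charDegree (χ : Equiv.Perm (Fin 7) → ℂ) = 20 := by
      rw [hχ]
      exact Blocks.Knorr.charDegree_of_natCast (ch_one hs h1)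
    rcases hdt with h4 | ⟨h4, -⟩
    · right; right
      rw [← h4, h3]
    · right; left
      show charDegree (θ : alternatingGroup (Fin 7) → ℂ) = 10
      omega

theorem mem_six {d : ℕ} (hd : d ∈ ([1, 6, 14, 15, 21, 35] : List ℕ)) :
    d ∈ charDegrees (alternatingGroup (Fin 7)) := by
  simp only [List.mem_cons, List.not_mem_nil, or_false] at hd
  rcases hd with rfl | rfl | rfl | rfl | rfl | rfl
  · exact one_mem
  · exact mem_gen (n := 5) (β := ![0, 2, 8]) (by decide) (by decide) (by decide +kernel) (by decide +kernel)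
  · exact mem_gen (n := 5) (β := ![0, 3, 7]) (by decide) (by decide) (by decide +kernel) (by decide +kernel)
  · exact mem_gen (n := 5) (β := ![1, 2, 7]) (by decide) (by decide) (by decide +kernel) (by decide +kernel)
  · exact mem_gen (n := 5) (β := ![1, 4, 5]) (by decide) (by decide) (by decide +kernel) (by decide +kernel)
  · exact mem_gen (n := 5) (β := ![1, 3, 6]) (by decide) (by decide) (by decide +kernel) (by decide +kernel)

theorem card_a7 : Nat.card (alternatingGroup (Fin 7)) = 2520 := by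
  have h := nat_card_alternatingGroup (α := Fin 7)
  rw [h, Nat.card_eq_fintype_card, Fintype.card_fin]
  decide

theorem not_twenty : 20 ∉ charDegrees (alternatingGroup (Fin 7)) := by
  intro h
  have h1 := sum_sq_le (S := alternatingGroup (Fin 7)) {1, 6, 14, 15, 21, 35, 20} (by
    intro d hd
    simp only [Finset.mem_insert, Finset.mem_singleton] at hd
    rcases hd with rfl | rfl | rfl | rfl | rfl | rfl | rfl
    all_goals first | exact h | exact mem_six (by simp))
  rw [card_a7] at h1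
  revert h1
  decide

theorem ten_mem : 10 ∈ charDegrees (alternatingGroup (Fin 7)) := by
  have hβ : StrictMono ![1, 2, 3, 7] := by decide
  have hs : ∑ i, ![1, 2, 3, 7] i = Fintype.card (Fin 7) + ∑ i : Fin 4, (i : ℕ) := by decide
  have hχ := isIrr_ch hβ hs
  obtain ⟨θ, hθ⟩ := exists_constituent (alternatingGroup (Fin 7)) hχ
  have h3 : charDegree (ch (Fin 7) ![1, 2, 3, 7]) = 20 :=
    Blocks.Knorr.charDegree_of_natCast (ch_one hs (by decide +kernel))
  rcases degree_two (alternatingGroup (Fin 7)) alternatingGroup.index_eq_two hχ θ.2 hθ with h | ⟨h, -⟩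
  · exact absurd ⟨θ, by show charDegree (θ : alternatingGroup (Fin 7) → ℂ) = 20; omega⟩ not_twenty
  · exact ⟨θ, by show charDegree (θ : alternatingGroup (Fin 7) → ℂ) = 10; omega⟩

/-- The character degrees of `A_7`. -/
theorem mem_a7 (d : ℕ) : d ∈ charDegrees (alternatingGroup (Fin 7)) ↔ d ∈ ([1, 6, 10, 14, 15, 21, 35] : List ℕ) := by
  constructor
  · intro h
    rcases deg_or h with h1 | rfl | rfl
    · simp only [List.mem_cons, List.not_mem_nil, or_false] at h1 ⊢
      omega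
    · simp
    · exact absurd h not_twenty
  · intro h
    by_cases h10 : d = 10
    · rw [h10]; exact ten_mem
    · refine mem_six ?_
      simp only [List.mem_cons, List.not_mem_nil, or_false] at h ⊢
      omega

/-- `A_7` has exactly seven character degrees. -/
theorem a7 : (charDegrees (alternatingGroup (Fin 7))).ncard = 7 :=
  ncard_eq_of_list [1, 6, 10, 14, 15, 21, 35] (by decide) mem_a7

end Cfsg.Agent.H600.EightAlt
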