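import Cfsg.Agent.H600.AltBase

/-!
# Arithmetic: a three part partition of `n` with large `p`-core and large `q`-core, `11 ≤ p < q ≤ n`
-/

set_option autoImplicit false

namespace Cfsg.Agent.H600.AltDeg

/-- three distinct numbers of sum `n + 3`, good for `p` and `q` -/
def Tr (n p q : ℕ) : Prop :=
  ∃ a b c : ℕ, a ≠ b ∧ a ≠ c ∧ b ≠ c ∧ a + b + c = n + 3 ∧ Gd p a b c ∧ Gd q a b c

theorem sub_mod_of {p T r : ℕ} (hT : p ∣ T) (hT0 : 0 < T) (hr : 0 < r) (hrp : r < p) : (T - r) % p = p - r := by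
  obtain ⟨J, rfl⟩ := hT
  have hJ : J ≠ 0 := by rintro rfl; simp at hT0
  obtain ⟨J, rfl⟩ := Nat.exists_eq_succ_of_ne_zero hJ
  have h1 : p * J.succ - r = (p - r) + p * J := by
    rw [Nat.mul_succ]; omega
  rw [h1, Nat.add_mul_mod_self_left, Nat.mod_eq_of_lt (by omega)]

theorem famT {n p q T : ℕ} (hp : 11 ≤ p) (hT : p ∣ T) (hT0 : 0 < T) (hTq : T ≤ q) (hTn : 2 * T ≤ n) (hqn : q ≤ n)
    (hq : q + 8 ≤ 2 * T ∨ n + 8 < 2 * T + q) : Tr n p q := by
  have hTp : p ≤ T := Nat.le_of_dvd hT0 hT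
  by_cases hc : n + 7 = 3 * T ∨ n + 8 = 3 * T
  · refine ⟨T - 1, T - 4, n + 8 - 2 * T, by omega, by omega, by omega, by omega, Gd.of_pair ?_, ?_⟩
    · rw [sub_mod_of hT hT0 (by omega) (by omega), sub_mod_of hT hT0 (by omega) (by omega)]
      omega
    · rcases hq with hq | hq
      · apply Gd.of_pair
        rw [Nat.mod_eq_of_lt (by omega), Nat.mod_eq_of_lt (by omega)]
        omega
      · apply Gd.of_sum
        rw [Nat.mod_eq_of_lt (by omega), Nat.mod_eq_of_lt (by omega), Nat.mod_eq_of_lt (by omega)]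
        omega
  · refine ⟨T - 1, T - 2, n + 6 - 2 * T, by omega, by omega, by omega, by omega, Gd.of_pair ?_, ?_⟩
    · rw [sub_mod_of hT hT0 (by omega) (by omega), sub_mod_of hT hT0 (by omega) (by omega)]
      omega
    · rcases hq with hq | hq
      · apply Gd.of_pair
        rw [Nat.mod_eq_of_lt (by omega), Nat.mod_eq_of_lt (by omega)]
        omega
      · apply Gd.of_sum
        rw [Nat.mod_eq_of_lt (by omega), Nat.mod_eq_of_lt (by omega), Nat.mod_eq_of_lt (by omega)]
        omega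

theorem famE {n p q k : ℕ} (hp : 11 ≤ p) (hk : 1 ≤ k) (hk2 : k ≤ 2) (hpq : p + 6 ≤ q) (hpn : 2 * p ≤ n) (hqn : q ≤ n)
    (h1 : n + k ≠ 3 * p) (h2 : n ≠ 3 * p + 3 + k) (hq : q < 2 * p ∨ n < 2 * p + q) : Tr n p q := by
  refine ⟨p - k, p + 3 + k, n - 2 * p, by omega, by omega, by omega, by omega, Gd.of_pair ?_, ?_⟩
  · rw [Nat.mod_eq_of_lt (by omega : p - k < p), show p + 3 + k = (3 + k) + p by ring, Nat.add_mod_right,
      Nat.mod_eq_of_lt (by omega : 3 + k < p)]
    omega
  · rcases hq with hq | hq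
    · apply Gd.of_pair
      rw [Nat.mod_eq_of_lt (by omega), Nat.mod_eq_of_lt (by omega)]
      omega
    · apply Gd.of_sum
      rw [Nat.mod_eq_of_lt (by omega), Nat.mod_eq_of_lt (by omega), Nat.mod_eq_of_lt (by omega)]
      omega

theorem tr_of_eleven {n p q : ℕ} (hp : 11 ≤ p) (hpq : p < q) (hqn : q ≤ n) (hpo : p % 2 = 1) (hqo : q % 2 = 1)
    (h15 : q ≠ 15) : Tr n p q := by
  rcases Nat.lt_or_ge n (2 * p) with h1 | h1
  · -- all three entries less than `p`
    obtain ⟨k, hk⟩ : ∃ k, k = (n + 3) / 3 := ⟨_, rfl⟩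
    refine ⟨k - 1, k, n + 4 - 2 * k, by omega, by omega, by omega, by omega, Gd.of_sum ?_, Gd.of_sum ?_⟩
    · rw [Nat.mod_eq_of_lt (by omega), Nat.mod_eq_of_lt (by omega), Nat.mod_eq_of_lt (by omega)]
      omega
    · rw [Nat.mod_eq_of_lt (by omega), Nat.mod_eq_of_lt (by omega), Nat.mod_eq_of_lt (by omega)]
      omega
  · have hE : (q < 2 * p ∨ n < 2 * p + q) → Tr n p q := by
      intro hq
      rcases Nat.lt_or_ge q (p + 6) with h2 | h2
      · exact famT hp dvd_rfl (by omega) hpq.le h1 hqn (by omega)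
      · by_cases h3 : n + 1 = 3 * p ∨ n = 3 * p + 4
        · exact famE (k := 2) hp (by omega) le_rfl h2 h1 hqn (by omega) (by omega) hq
        · exact famE (k := 1) hp le_rfl (by omega) h2 h1 hqn (by omega) (by omega) hq
    rcases Nat.lt_or_ge n (2 * q) with h2 | h2
    · rcases Nat.lt_or_ge n (4 * p) with h3 | h3
      · exact hE (by omega)
      · have h4 := Nat.div_add_mod n (2 * p)
        have h5 := Nat.mod_lt n (by omega : 0 < 2 * p)
        have h6 : 2 ≤ n / (2 * p) := (Nat.le_div_iff_mul_le (by omega)).2 (by omega)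
        have h7 : p * 2 ≤ p * (n / (2 * p)) := Nat.mul_le_mul_left _ h6
        have h8 : 2 * p * (n / (2 * p)) = 2 * (p * (n / (2 * p))) := by ring
        exact famT (T := p * (n / (2 * p))) hp (dvd_mul_right _ _) (by omega) (by omega) (by omega) hqn (by omega)
    · rcases Nat.lt_or_ge q (2 * p) with h3 | h3
      · exact hE (Or.inl h3)
      · have h4 := Nat.div_add_mod q p
        have h5 := Nat.mod_lt q (by omega : 0 < p)
        have h6 : 2 ≤ q / p := (Nat.le_div_iff_mul_le (by omega)).2 (by omega)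
        have h7 : p * 2 ≤ p * (q / p) := Nat.mul_le_mul_left _ h6
        exact famT (T := p * (q / p)) hp (dvd_mul_right _ _) (by omega) (by omega) (by omega) hqn (by omega)

end Cfsg.Agent.H600.AltDeg
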