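import Cfsg.Agent.H614.Height
import Cfsg.Agent.H614.Chars
import Cfsg.Agent.H614.AltBlk
import Cfsg.Agent.H671.H5Facts
import Cfsg.Agent.H670.PSing

/-!
# Characters of symmetric and alternating groups attached to partitions with three parts

`β = ![a, b, c]` with `a, b, c` distinct and `a + b + c = n + 3` is (up to order) the beta-set of a partition of `n`
with at most three parts. `Gd p a b c` : the `p`-core of that partition has size at least `p`; then `p` divides the
degree (`crit`).
-/

set_option autoImplicit false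

namespace Cfsg.Agent.H600.AltDeg

open Finset Cfsg Cfsg.Agent.H614 Cfsg.Agent.Characters.Core

/-- the number of pairs of congruent entries -/
def np (p a b c : ℕ) : ℕ :=
  (if a % p = b % p then 1 else 0) + (if a % p = c % p then 1 else 0) + (if b % p = c % p then 1 else 0)

/-- the core of the partition with beta-set `{a, b, c}` has size at least `p` -/
def Gd (p a b c : ℕ) : Prop := p + 3 ≤ a % p + b % p + c % p + p * np p a b c

instance (p a b c : ℕ) : Decidable (Gd p a b c) := by unfold Gd; infer_instance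

theorem Gd.of_sum {p a b c : ℕ} (h : p + 3 ≤ a % p + b % p + c % p) : Gd p a b c := by
  unfold Gd; omega

theorem Gd.of_pair {p a b c : ℕ} (h : p + 3 ≤ a % p + b % p) : Gd p a b c := by
  unfold Gd; omega

theorem npairs_three (p a b c : ℕ) : npairs p ![a, b, c] = np p a b c := by
  unfold npairs np
  rw [Finset.card_filter, Fintype.sum_prod_type]
  simp only [Fin.sum_univ_three, Matrix.cons_val_zero, Matrix.cons_val_one, Matrix.cons_val_two, Matrix.head_cons,
    Matrix.tail_cons]
  simp

theorem injective_three {a b c : ℕ} (hab : a ≠ b) (hac : a ≠ c) (hbc : b ≠ c) : Function.Injective ![a, b, c] := by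
  intro i j h
  fin_cases i <;> fin_cases j <;> simp_all

theorem sum_three {n a b c : ℕ} (h : a + b + c = n + 3) : ∑ i, ![a, b, c] i = n + ∑ i : Fin 3, (i : ℕ) := by
  simp [Fin.sum_univ_three]; omega

/-- degree of the character with beta-set `{a, b, c}` -/
def dg (n a b c : ℕ) : ℕ := Int.natAbs (FM (Multiset.replicate n 1) ![a, b, c])

theorem crit {p n a b c : ℕ} (hp : p.Prime) (hab : a ≠ b) (hac : a ≠ c) (hbc : b ≠ c) (hs : a + b + c = n + 3)
    (h : Gd p a b c) : p ∣ dg n a b c := by
  have : Fact p.Prime := ⟨hp⟩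
  have hp0 := hp.pos
  have hinj := injective_three hab hac hbc
  have hle := npairs_le (p := p) hp.pos hinj
  have hsum : ∑ j, (![a, b, c] : Fin 3 → ℕ) j / p = a / p + b / p + c / p := by simp [Fin.sum_univ_three]
  rw [hsum, npairs_three] at hle
  obtain ⟨w, hw⟩ := Nat.exists_eq_add_of_le hle
  have hval := val_ge (p := p) (n := n) (w := w) hinj (sum_three hs) (by rw [hsum, npairs_three]; omega)
  have hwn : w + 1 ≤ n / p := by
    rw [Nat.le_div_iff_mul_le hp0]
    unfold Gd at h
    have ea := Nat.div_add_mod a p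
    have eb := Nat.div_add_mod b p
    have ec := Nat.div_add_mod c p
    have e1 : p * (a / p) + p * (b / p) + p * (c / p) = p * np p a b c + p * w := by
      rw [← Nat.mul_add, ← Nat.mul_add, hw, Nat.mul_add]
    have e2 : (w + 1) * p = p * w + p := by ring
    omega
  have h1 := val_factorial (p := p) n
  have h2 : padicValNat p w.factorial ≤ padicValNat p (n / p).factorial :=
    (padicValNat_dvd_iff_le (Nat.factorial_ne_zero _)).mp
      (pow_padicValNat_dvd.trans (Nat.factorial_dvd_factorial (by omega)))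
  have h3 : 1 ≤ padicValNat p (dg n a b c) := by
    unfold dg
    omega
  exact dvd_of_one_le_padicValNat h3

theorem dg_pos {n a b c : ℕ} (hab : a ≠ b) (hac : a ≠ c) (hbc : b ≠ c) (hs : a + b + c = n + 3) :
    0 < dg n a b c := by
  obtain ⟨γ, hγ, -, hsum, habs⟩ := exists_sorted (injective_three hab hac hbc)
  have h := FM_ones_pos n hγ (by rw [hsum, sum_three hs])
  have h1 := habs (Multiset.replicate n 1)
  unfold dg
  omega

/-- the irreducible character of the symmetric group -/
theorem exists_sym {n a b c : ℕ} (hab : a ≠ b) (hac : a ≠ c) (hbc : b ≠ c) (hs : a + b + c = n + 3) :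
    ∃ χ : Equiv.Perm (Fin n) → ℂ, IsIrrCharacter (Equiv.Perm (Fin n)) χ ∧ χ 1 = (dg n a b c : ℂ) ∧
      ∀ g, χ g = 0 → FM (ty g) ![a, b, c] = 0 := by
  obtain ⟨γ, hγ, -, hsum, habs⟩ := exists_sorted (injective_three hab hac hbc)
  have hs' : ∑ i, γ i = Fintype.card (Fin n) + ∑ i : Fin 3, (i : ℕ) := by
    rw [hsum, sum_three hs, Fintype.card_fin]
  refine ⟨ch (Fin n) γ, isIrr_ch hγ hs', ?_, ?_⟩
  · have h := FM_ones_pos n hγ (by rw [hsum, sum_three hs])
    have h1 := habs (Multiset.replicate n 1)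
    rw [ch_apply, ty_one, Fintype.card_fin]
    have h2 : FM (Multiset.replicate n 1) γ = (dg n a b c : ℤ) := by unfold dg; omega
    rw [h2]
    norm_cast
  · intro g hg
    rw [ch_apply] at hg
    have h1 := habs (ty g)
    have h2 : FM (ty g) γ = 0 := by exact_mod_cast hg
    rw [h2] at h1
    omega

/-- the constituents in the alternating group -/
theorem exists_alt {n a b c : ℕ} (hn : 2 ≤ n) (hab : a ≠ b) (hac : a ≠ c) (hbc : b ≠ c)
    (hs : a + b + c = n + 3) : ∃ θ : IrrCharacter (alternatingGroup (Fin n)),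
      dg n a b c = charDegree (θ : alternatingGroup (Fin n) → ℂ) ∨
      (dg n a b c = 2 * charDegree (θ : alternatingGroup (Fin n) → ℂ) ∧
        ∀ g : Equiv.Perm (Fin n), g ∉ alternatingGroup (Fin n) → FM (ty g) ![a, b, c] = 0) := by
  classical
  have : Nontrivial (Fin n) := Fin.nontrivial_iff_two_le.2 hn
  obtain ⟨χ, hχ, h1, h0⟩ := exists_sym hab hac hbc hs
  obtain ⟨θ, hθ⟩ := exists_constituent (alternatingGroup (Fin n)) hχ
  have hdeg : (θ : alternatingGroup (Fin n) → ℂ) 1 = (charDegree (θ : alternatingGroup (Fin n) → ℂ) : ℂ) := by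
    obtain ⟨k, -, hk⟩ := isIrr_apply_one θ.2
    rw [H670.PSing.charDegree_eq_of hk, hk]
  refine ⟨θ, ?_⟩
  rcases restrict_two (alternatingGroup (Fin n)) alternatingGroup.index_eq_two hχ θ.2 hθ with h | ⟨h, h'⟩
  · left
    have h2 := h 1
    rw [OneMemClass.coe_one, h1, hdeg] at h2
    exact_mod_cast h2
  · right
    refine ⟨?_, fun g hg => h0 g (h' g hg)⟩
    rw [h1, hdeg] at h
    exact_mod_cast h

/-- odd divisors of the degree -/
theorem exists_odd {n a b c m : ℕ} (hn : 2 ≤ n) (hab : a ≠ b) (hac : a ≠ c) (hbc : b ≠ c)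
    (hs : a + b + c = n + 3) (hm : Odd m) (hd : m ∣ dg n a b c) :
    ∃ θ : IrrCharacter (alternatingGroup (Fin n)), m ∣ charDegree (θ : alternatingGroup (Fin n) → ℂ) := by
  obtain ⟨θ, h | ⟨h, -⟩⟩ := exists_alt hn hab hac hbc hs
  · exact ⟨θ, h ▸ hd⟩
  · refine ⟨θ, ?_⟩
    rw [h] at hd
    exact Nat.Coprime.dvd_of_dvd_mul_left (Nat.coprime_two_right.2 hm) hd

/-- a long cycle on which the character does not vanish -/
theorem FM_cycle_ne {n a b c L : ℕ} (hab : a ≠ b) (haL : a < L) (hbL : b < L) (hLc : L ≤ c)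
    (ha : a ≠ c - L) (hb : b ≠ c - L) (hs : a + b + c = n + 3) (hLn : L ≤ n) :
    FM (L ::ₘ Multiset.replicate (n - L) 1) ![a, b, c] ≠ 0 := by
  rw [FM_cons, Fin.sum_univ_three]
  have e0 : ¬ L ≤ (![a, b, c] : Fin 3 → ℕ) 0 := by simpa using haL
  have e1 : ¬ L ≤ (![a, b, c] : Fin 3 → ℕ) 1 := by simpa using hbL
  have e2 : L ≤ (![a, b, c] : Fin 3 → ℕ) 2 := by simpa using hLc
  rw [if_neg e0, if_neg e1, if_pos e2, zero_add, zero_add]
  have e3 : dn ![a, b, c] 2 L = ![a, b, c - L] := by
    unfold dn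
    funext i
    fin_cases i <;> simp
  rw [e3]
  have h := dg_pos (n := n - L) (a := a) (b := b) (c := c - L) hab ha hb (by omega)
  unfold dg at h
  omega

/-- the restriction to the alternating group is irreducible if the character is nonzero on an odd cycle -/
theorem exists_two {n a b c L m : ℕ} (hn : 2 ≤ n) (hab : a ≠ b) (haL : a < L) (hbL : b < L) (hLc : L ≤ c)
    (ha : a ≠ c - L) (hb : b ≠ c - L) (hs : a + b + c = n + 3) (hLn : L ≤ n) (hL : Even L) (hL0 : 0 < L)
    (hd : m ∣ dg n a b c) :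
    ∃ θ : IrrCharacter (alternatingGroup (Fin n)), m ∣ charDegree (θ : alternatingGroup (Fin n) → ℂ) := by
  obtain ⟨θ, h | ⟨-, h⟩⟩ := exists_alt hn hab (by omega : a ≠ c) (by omega : b ≠ c) hs
  · exact ⟨θ, h ▸ hd⟩
  · exfalso
    have h2 : 2 ≤ L := by
      obtain ⟨k, hk⟩ := hL
      omega
    obtain ⟨g, hg⟩ := (Equiv.Perm.exists_with_cycleType_iff (α := Fin n) (m := {L})).2
      ⟨by rw [Fintype.card_fin]; simpa using hLn, by simpa using h2⟩
    have h3 := h g (by
      rw [Equiv.Perm.mem_alternatingGroup, Equiv.Perm.sign_of_cycleType, hg]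
      simp only [Multiset.sum_singleton, Multiset.card_singleton]
      rw [(hL.add_one).neg_one_pow]
      decide)
    refine FM_cycle_ne hab haL hbL hLc ha hb hs hLn ?_
    rw [ty_eq, hg, Fintype.card_fin] at h3
    simpa using h3

end Cfsg.Agent.H600.AltDeg
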