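import Cfsg.Agent.H600.AltFix
import Cfsg.Agent.H664.Eight.Base

/-!
# Character degrees of the alternating groups: at least eight for `n ≥ 8`
-/

set_option autoImplicit false

namespace Cfsg.Agent.H600.EightAlt

open Finset Cfsg Cfsg.Agent.H614 Cfsg.Agent.Characters.Core Cfsg.Agent.H600.AltDeg Cfsg.Agent.H664.Eight

theorem mem_of {n a b c L d : ℕ} (hn : 2 ≤ n) (hab : a ≠ b) (haL : a < L) (hbL : b < L) (hLc : L ≤ c)
    (ha : a ≠ c - L) (hb : b ≠ c - L) (hs : a + b + c = n + 3) (hLn : L ≤ n) (hL : Even L)
    (hd : dg n a b c = d) : d ∈ charDegrees (alternatingGroup (Fin n)) := by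
  obtain ⟨θ, h | ⟨-, h⟩⟩ := exists_alt hn hab (by omega : a ≠ c) (by omega : b ≠ c) hs
  · exact ⟨θ, by rw [← hd, h]⟩
  · exfalso
    have h2 : 2 ≤ L := by
      obtain ⟨k, hk⟩ := hL
      omega
    obtain ⟨g, hg⟩ := (Equiv.Perm.exists_with_cycleType_iff (α := Fin n) (m := {L})).2
      ⟨by rw [Fintype.card_fin]; simpa using hLn, by simpa using h2⟩
    have h3 := h g (by
      rw [Equiv.Perm.mem_alternatingGroup, Equiv.Perm.sign_of_cycleType, hg]
      simp only [Multiset.sum_singleton, Multiset.card_singleton]
      rw [(hL.add_one).neg_one_pow]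
      decide)
    refine FM_cycle_ne hab haL hbL hLc ha hb hs hLn ?_
    rw [ty_eq, hg, Fintype.card_fin] at h3
    simpa using h3

theorem canc {K X F A B : ℕ} (hK : 0 < K) (h : A = B) (h1 : A = F * K) (h2 : B = X * K) : F = X := by
  rw [h1, h2] at h
  exact Nat.eq_of_mul_eq_mul_right hK h

theorem e1 (m : ℕ) : dg (m + 10) 0 2 (m + 11) = m + 9 := by
  have h := dg_formula (n := m + 10) (a := 0) (b := 2) (c := m + 11) (by omega) (by omega) (by omega)
  rw [Nat.factorial_succ (m + 10), show m + 11 - 0 = m + 11 from rfl, show m + 11 - 2 = m + 9 by omega] at h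
  have hF := Nat.factorial_pos (m + 10)
  generalize (m + 10).factorial = F at h hF
  generalize dg (m + 10) 0 2 (m + 11) = D at h ⊢
  refine canc (K := F * (2 * (m + 11))) (by positivity) h ?_ ?_
  · simp only [Nat.factorial]; ring
  · ring

theorem e2 (m : ℕ) : 2 * dg (m + 10) 0 3 (m + 10) = (m + 10) * (m + 7) := by
  have h := dg_formula (n := m + 10) (a := 0) (b := 3) (c := m + 10) (by omega) (by omega) (by omega)
  rw [show m + 10 - 0 = m + 10 from rfl, show m + 10 - 3 = m + 7 by omega] at h
  have hF := Nat.factorial_pos (m + 10)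
  generalize (m + 10).factorial = F at h hF
  generalize dg (m + 10) 0 3 (m + 10) = D at h ⊢
  refine canc (K := F * 3) (by positivity) h ?_ ?_
  · simp [Nat.factorial]; ring
  · ring

theorem e3 (m : ℕ) : 2 * dg (m + 10) 1 2 (m + 10) = (m + 9) * (m + 8) := by
  have h := dg_formula (n := m + 10) (a := 1) (b := 2) (c := m + 10) (by omega) (by omega) (by omega)
  rw [show m + 10 - 1 = m + 9 by omega, show m + 10 - 2 = m + 8 by omega] at h
  have hF := Nat.factorial_pos (m + 10)
  generalize (m + 10).factorial = F at h hF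
  generalize dg (m + 10) 1 2 (m + 10) = D at h ⊢
  refine canc (K := F) (by positivity) h ?_ ?_
  · simp [Nat.factorial]; ring
  · ring

theorem e4 (m : ℕ) : 6 * dg (m + 10) 0 4 (m + 9) = (m + 10) * ((m + 9) * (m + 5)) := by
  have h := dg_formula (n := m + 10) (a := 0) (b := 4) (c := m + 9) (by omega) (by omega) (by omega)
  rw [Nat.factorial_succ (m + 9), show m + 9 - 0 = m + 9 from rfl, show m + 9 - 4 = m + 5 by omega] at h
  have hF := Nat.factorial_pos (m + 9)
  generalize (m + 9).factorial = F at h hF
  generalize dg (m + 10) 0 4 (m + 9) = D at h ⊢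
  refine canc (K := F * 4) (by positivity) h ?_ ?_
  · simp [Nat.factorial]; ring
  · ring

theorem e6 (m : ℕ) : 24 * dg (m + 10) 0 5 (m + 8) = (m + 10) * ((m + 9) * ((m + 8) * (m + 3))) := by
  have h := dg_formula (n := m + 10) (a := 0) (b := 5) (c := m + 8) (by omega) (by omega) (by omega)
  rw [Nat.factorial_succ (m + 9), Nat.factorial_succ (m + 8), show m + 8 - 0 = m + 8 from rfl,
    show m + 8 - 5 = m + 3 by omega] at h
  have hF := Nat.factorial_pos (m + 8)
  generalize (m + 8).factorial = F at h hF
  generalize dg (m + 10) 0 5 (m + 8) = D at h ⊢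
  refine canc (K := F * 5) (by positivity) h ?_ ?_
  · simp [Nat.factorial]; ring
  · ring

theorem e7 (m : ℕ) : 12 * dg (m + 10) 2 3 (m + 8) = (m + 10) * ((m + 9) * ((m + 6) * (m + 5))) := by
  have h := dg_formula (n := m + 10) (a := 2) (b := 3) (c := m + 8) (by omega) (by omega) (by omega)
  rw [Nat.factorial_succ (m + 9), Nat.factorial_succ (m + 8), show m + 8 - 2 = m + 6 by omega,
    show m + 8 - 3 = m + 5 by omega] at h
  have hF := Nat.factorial_pos (m + 8)
  generalize (m + 8).factorial = F at h hF
  generalize dg (m + 10) 2 3 (m + 8) = D at h ⊢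
  refine canc (K := F) (by positivity) h ?_ ?_
  · simp [Nat.factorial]; ring
  · ring

theorem e8 (m : ℕ) : 8 * dg (m + 10) 1 4 (m + 8) = (m + 10) * ((m + 9) * ((m + 7) * (m + 4))) := by
  have h := dg_formula (n := m + 10) (a := 1) (b := 4) (c := m + 8) (by omega) (by omega) (by omega)
  rw [Nat.factorial_succ (m + 9), Nat.factorial_succ (m + 8), show m + 8 - 1 = m + 7 by omega,
    show m + 8 - 4 = m + 4 by omega] at h
  have hF := Nat.factorial_pos (m + 8)
  generalize (m + 8).factorial = F at h hF
  generalize dg (m + 10) 1 4 (m + 8) = D at h ⊢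
  refine canc (K := F * 3) (by positivity) h ?_ ?_
  · simp [Nat.factorial]; ring
  · ring

theorem chain {m x1 x2 x3 x4 x6 x7 x8 : ℕ} (e1 : x1 = m + 9) (e2 : 2 * x2 = (m + 10) * (m + 7))
    (e3 : 2 * x3 = (m + 9) * (m + 8)) (e4 : 6 * x4 = (m + 10) * ((m + 9) * (m + 5)))
    (e6 : 24 * x6 = (m + 10) * ((m + 9) * ((m + 8) * (m + 3))))
    (e7 : 12 * x7 = (m + 10) * ((m + 9) * ((m + 6) * (m + 5))))
    (e8 : 8 * x8 = (m + 10) * ((m + 9) * ((m + 7) * (m + 4)))) :
    1 < x1 ∧ x1 < x2 ∧ x2 < x3 ∧ x3 < x4 ∧ x4 < x6 ∧ x6 < x7 ∧ x7 < x8 := by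
  refine ⟨by omega, by nlinarith, by nlinarith, ?_, ?_, ?_, ?_⟩
  · nlinarith [Nat.zero_le (m * m), Nat.zero_le (m * m * m)]
  · have h : (m + 10) * (m + 9) * (4 * (m + 5)) < (m + 10) * (m + 9) * ((m + 8) * (m + 3)) := by
      apply Nat.mul_lt_mul_of_pos_left _ (by positivity)
      nlinarith
    nlinarith
  · have h : (m + 10) * (m + 9) * ((m + 8) * (m + 3)) < (m + 10) * (m + 9) * (2 * ((m + 6) * (m + 5))) := by
      apply Nat.mul_lt_mul_of_pos_left _ (by positivity)
      nlinarith
    nlinarith
  · have h : (m + 10) * (m + 9) * (2 * ((m + 6) * (m + 5))) < (m + 10) * (m + 9) * (3 * ((m + 7) * (m + 4))) := by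
      apply Nat.mul_lt_mul_of_pos_left _ (by positivity)
      nlinarith
    nlinarith

/-- the degree from the formula -/
theorem dg_eq {n a b c d : ℕ} (hab : a < b) (hbc : b < c) (hs : a + b + c = n + 3)
    (h : d * (a.factorial * b.factorial * c.factorial) = n.factorial * ((b - a) * (c - a) * (c - b))) :
    dg n a b c = d := by
  have h1 := dg_formula hab hbc hs
  rw [← h] at h1
  exact Nat.eq_of_mul_eq_mul_right (by positivity) h1

theorem eight_large (m : ℕ) : Eight (alternatingGroup (Fin (m + 10))) := by
  refine eight_of_chain [1, dg (m + 10) 0 2 (m + 11), dg (m + 10) 0 3 (m + 10), dg (m + 10) 1 2 (m + 10),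
    dg (m + 10) 0 4 (m + 9), dg (m + 10) 0 5 (m + 8), dg (m + 10) 2 3 (m + 8), dg (m + 10) 1 4 (m + 8)] ?_ (by simp) ?_
  · have hc := chain (e1 m) (e2 m) (e3 m) (e4 m) (e6 m) (e7 m) (e8 m)
    generalize dg (m + 10) 0 2 (m + 11) = x1 at *
    generalize dg (m + 10) 0 3 (m + 10) = x2 at *
    generalize dg (m + 10) 1 2 (m + 10) = x3 at *
    generalize dg (m + 10) 0 4 (m + 9) = x4 at *
    generalize dg (m + 10) 0 5 (m + 8) = x6 at *
    generalize dg (m + 10) 2 3 (m + 8) = x7 at *
    generalize dg (m + 10) 1 4 (m + 8) = x8 at *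
    simp only [List.pairwise_cons, List.mem_cons, List.not_mem_nil, or_false, forall_eq_or_imp, forall_eq,
      List.Pairwise.nil, and_true, false_imp_iff, implies_true]
    omega
  · intro d hd
    simp only [List.mem_cons, List.not_mem_nil, or_false] at hd
    rcases Nat.even_or_odd m with ⟨k, hk⟩ | ⟨k, hk⟩
    · rcases hd with rfl | rfl | rfl | rfl | rfl | rfl | rfl | rfl
      · exact one_mem
      · exact mem_of (L := m + 10) (by omega) (by omega) (by omega) (by omega) (by omega) (by omega) (by omega)
          (by omega) (by omega) ⟨k + 5, by omega⟩ rfl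
      · exact mem_of (L := m + 8) (by omega) (by omega) (by omega) (by omega) (by omega) (by omega) (by omega)
          (by omega) (by omega) ⟨k + 4, by omega⟩ rfl
      · exact mem_of (L := m + 10) (by omega) (by omega) (by omega) (by omega) (by omega) (by omega) (by omega)
          (by omega) (by omega) ⟨k + 5, by omega⟩ rfl
      · exact mem_of (L := m + 8) (by omega) (by omega) (by omega) (by omega) (by omega) (by omega) (by omega)
          (by omega) (by omega) ⟨k + 4, by omega⟩ rfl
      · exact mem_of (L := m + 6) (by omega) (by omega) (by omega) (by omega) (by omega) (by omega) (by omega)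
          (by omega) (by omega) ⟨k + 3, by omega⟩ rfl
      · exact mem_of (L := m + 8) (by omega) (by omega) (by omega) (by omega) (by omega) (by omega) (by omega)
          (by omega) (by omega) ⟨k + 4, by omega⟩ rfl
      · exact mem_of (L := m + 8) (by omega) (by omega) (by omega) (by omega) (by omega) (by omega) (by omega)
          (by omega) (by omega) ⟨k + 4, by omega⟩ rfl
    · rcases hd with rfl | rfl | rfl | rfl | rfl | rfl | rfl | rfl
      · exact one_mem
      · exact mem_of (L := m + 7) (by omega) (by omega) (by omega) (by omega) (by omega) (by omega) (by omega)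
          (by omega) (by omega) ⟨k + 4, by omega⟩ rfl
      · exact mem_of (L := m + 9) (by omega) (by omega) (by omega) (by omega) (by omega) (by omega) (by omega)
          (by omega) (by omega) ⟨k + 5, by omega⟩ rfl
      · exact mem_of (L := m + 7) (by omega) (by omega) (by omega) (by omega) (by omega) (by omega) (by omega)
          (by omega) (by omega) ⟨k + 4, by omega⟩ rfl
      · exact mem_of (L := m + 7) (by omega) (by omega) (by omega) (by omega) (by omega) (by omega) (by omega)
          (by omega) (by omega) ⟨k + 4, by omega⟩ rfl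
      · exact mem_of (L := m + 7) (by omega) (by omega) (by omega) (by omega) (by omega) (by omega) (by omega)
          (by omega) (by omega) ⟨k + 4, by omega⟩ rfl
      · exact mem_of (L := m + 7) (by omega) (by omega) (by omega) (by omega) (by omega) (by omega) (by omega)
          (by omega) (by omega) ⟨k + 4, by omega⟩ rfl
      · exact mem_of (L := m + 5) (by omega) (by omega) (by omega) (by omega) (by omega) (by omega) (by omega)
          (by omega) (by omega) ⟨k + 3, by omega⟩ rfl

/-! ### `A_9`, `A_8` -/

theorem eight_nine : Eight (alternatingGroup (Fin 9)) := by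
  refine eight_of_list [1, 8, 27, 28, 48, 105, 42, 84] (by decide) (by simp) ?_
  intro d hd
  simp only [List.mem_cons, List.not_mem_nil, or_false] at hd
  rcases hd with rfl | rfl | rfl | rfl | rfl | rfl | rfl | rfl
  · exact one_mem
  · exact mem_of (a := 0) (b := 2) (c := 10) (L := 6) (by omega) (by omega) (by omega) (by omega) (by omega) (by omega)
      (by omega) (by omega) (by omega) ⟨3, rfl⟩ (dg_eq (by omega) (by omega) (by omega) (by decide))
  · exact mem_of (a := 0) (b := 3) (c := 9) (L := 8) (by omega) (by omega) (by omega) (by omega) (by omega) (by omega)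
      (by omega) (by omega) (by omega) ⟨4, rfl⟩ (dg_eq (by omega) (by omega) (by omega) (by decide))
  · exact mem_of (a := 1) (b := 2) (c := 9) (L := 6) (by omega) (by omega) (by omega) (by omega) (by omega) (by omega)
      (by omega) (by omega) (by omega) ⟨3, rfl⟩ (dg_eq (by omega) (by omega) (by omega) (by decide))
  · exact mem_of (a := 0) (b := 4) (c := 8) (L := 6) (by omega) (by omega) (by omega) (by omega) (by omega) (by omega)
      (by omega) (by omega) (by omega) ⟨3, rfl⟩ (dg_eq (by omega) (by omega) (by omega) (by decide))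
  · exact mem_of (a := 1) (b := 3) (c := 8) (L := 8) (by omega) (by omega) (by omega) (by omega) (by omega) (by omega)
      (by omega) (by omega) (by omega) ⟨4, rfl⟩ (dg_eq (by omega) (by omega) (by omega) (by decide))
  · exact mem_of (a := 0) (b := 5) (c := 7) (L := 6) (by omega) (by omega) (by omega) (by omega) (by omega) (by omega)
      (by omega) (by omega) (by omega) ⟨3, rfl⟩ (dg_eq (by omega) (by omega) (by omega) (by decide))
  · exact mem_of (a := 1) (b := 5) (c := 6) (L := 6) (by omega) (by omega) (by omega) (by omega) (by omega) (by omega)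
      (by omega) (by omega) (by omega) ⟨3, rfl⟩ (dg_eq (by omega) (by omega) (by omega) (by decide))

end Cfsg.Agent.H600.EightAlt
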