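import Cfsg.Prelude.Def_Characters
import Mathlib.LinearAlgebra.Trace
import Mathlib.LinearAlgebra.FiniteDimensional.Basic
import Mathlib.LinearAlgebra.Complex.Module
import Mathlib.LinearAlgebra.Complex.FiniteDimensional

/-!
# Real forms of complex representations

A complex representation that commutes with a conjugate-linear involution is realisable over `ℝ`.
-/

set_option autoImplicit false

namespace Cfsg.Agent.H600.RealForm

open scoped ComplexConjugate

variable {G : Type*} [Group G] {n : ℕ}

/-- The real subspace of fixed points of a conjugate-linear map. -/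
def fixedSub (K : (Fin n → ℂ) → (Fin n → ℂ)) (hadd : ∀ v w, K (v + w) = K v + K w)
    (hsmul : ∀ (c : ℂ) v, K (c • v) = conj c • K v) : Submodule ℝ (Fin n → ℂ) where
  carrier := {v | K v = v}
  add_mem' := by
    intro v w hv hw
    simp only [Set.mem_ofPred_eq] at *
    rw [hadd, hv, hw]
  zero_mem' := by
    have := hsmul 0 0
    simpa using this
  smul_mem' := by
    intro r v hv
    simp only [Set.mem_ofPred_eq] at *
    have h := hsmul (r : ℂ) v
    rw [Complex.conj_ofReal, hv] at h
    have e : (r • v : Fin n → ℂ) = (r : ℂ) • v := by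
      ext i
      simp
    rw [e, h]

/-- A representation commuting with a conjugate-linear involution is realisable over `ℝ`. -/
theorem exists_real_rep (ρ : Representation ℂ G (Fin n → ℂ)) (K : (Fin n → ℂ) → (Fin n → ℂ))
    (hadd : ∀ v w, K (v + w) = K v + K w) (hsmul : ∀ (c : ℂ) v, K (c • v) = conj c • K v)
    (hK : ∀ v, K (K v) = v) (hcomm : ∀ g v, K (ρ g v) = ρ g (K v)) :
    ∃ (m : ℕ) (τ : Representation ℝ G (Fin m → ℝ)),
      ∀ g, ((LinearMap.trace ℝ (Fin m → ℝ) (τ g) : ℝ) : ℂ) = ρ.character g := by
  classical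
  set W : Submodule ℝ (Fin n → ℂ) := fixedSub K hadd hsmul with hW
  have hmem : ∀ v, v ∈ W ↔ K v = v := fun v => Iff.rfl
  have hrs : ∀ (r : ℝ) (v : Fin n → ℂ), (r • v : Fin n → ℂ) = (r : ℂ) • v := by
    intro r v
    ext i
    simp
  have hstab : ∀ (g : G) (v : Fin n → ℂ), v ∈ W → ρ g v ∈ W := by
    intro g v hv
    rw [hmem] at *
    rw [hcomm, hv]
  -- the restricted representation
  let σ : Representation ℝ G W :=
    { toFun := fun g => ((ρ g).restrictScalars ℝ).restrict (hstab g)
      map_one' := by
        apply LinearMap.ext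
        intro v
        apply Subtype.ext
        simp [LinearMap.restrict_apply]
      map_mul' := by
        intro g h
        apply LinearMap.ext
        intro v
        apply Subtype.ext
        show ρ (g * h) v = ρ g (ρ h v)
        rw [map_mul]
        rfl }
  have hσ : ∀ (g : G) (v : W), ((σ g v : W) : Fin n → ℂ) = ρ g v := fun g v => rfl
  let b := Module.finBasis ℝ W
  set m := Module.finrank ℝ W with hm
  -- linear independence over ℂ
  have hli : LinearIndependent ℂ (fun i => ((b i : W) : Fin n → ℂ)) := by
    rw [Fintype.linearIndependent_iff]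
    intro z hz
    have hKsum : ∀ (s : Finset (Fin m)) (z : Fin m → ℂ),
        K (∑ i ∈ s, z i • ((b i : W) : Fin n → ℂ)) =
        ∑ i ∈ s, conj (z i) • ((b i : W) : Fin n → ℂ) := by
      intro s z
      induction s using Finset.induction_on with
      | empty =>
        have := hsmul 0 0
        simpa using this
      | insert a s ha ih =>
        rw [Finset.sum_insert ha, Finset.sum_insert ha, hadd, ih, hsmul, (hmem _).1 (b a).2]
    have hz' : ∑ i, conj (z i) • ((b i : W) : Fin n → ℂ) = 0 := by
      rw [← hKsum, hz]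
      have := hsmul 0 0
      simpa using this
    have hre : ∑ i, (z i).re • b i = 0 := by
      apply Subtype.ext
      rw [Submodule.coe_sum, Submodule.coe_zero]
      have : ∀ i, (((z i).re • b i : W) : Fin n → ℂ) =
          (2 : ℂ)⁻¹ • (z i • ((b i : W) : Fin n → ℂ) + conj (z i) • ((b i : W) : Fin n → ℂ)) := by
        intro i
        rw [Submodule.coe_smul, hrs, ← add_smul, smul_smul, Complex.add_conj]
        congr 1
        push_cast
        ring
      rw [Finset.sum_congr rfl (fun i _ => this i), ← Finset.smul_sum, Finset.sum_add_distrib,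
        hz, hz', add_zero, smul_zero]
    have him : ∑ i, (z i).im • b i = 0 := by
      apply Subtype.ext
      rw [Submodule.coe_sum, Submodule.coe_zero]
      have : ∀ i, (((z i).im • b i : W) : Fin n → ℂ) =
          (2 * Complex.I : ℂ)⁻¹ • (z i • ((b i : W) : Fin n → ℂ) -
            conj (z i) • ((b i : W) : Fin n → ℂ)) := by
        intro i
        rw [Submodule.coe_smul, hrs, ← sub_smul, smul_smul, Complex.sub_conj]
        congr 1
        push_cast
        field_simp
      rw [Finset.sum_congr rfl (fun i _ => this i), ← Finset.smul_sum, Finset.sum_sub_distrib,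
        hz, hz', sub_zero, smul_zero]
    have hbi := Fintype.linearIndependent_iff.1 b.linearIndependent
    intro i
    apply Complex.ext
    · exact hbi _ hre i
    · exact hbi _ him i
  -- spanning
  have hWspan : ∀ w : W, ((w : W) : Fin n → ℂ) ∈
      Submodule.span ℂ (Set.range (fun i => ((b i : W) : Fin n → ℂ))) := by
    intro w
    have := b.sum_repr w
    rw [← this, Submodule.coe_sum]
    refine Submodule.sum_mem _ fun i _ => ?_
    rw [Submodule.coe_smul, hrs]
    exact Submodule.smul_mem _ _ (Submodule.subset_span ⟨i, rfl⟩)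
  have hsp : ⊤ ≤ Submodule.span ℂ (Set.range (fun i => ((b i : W) : Fin n → ℂ))) := by
    intro v _
    have hc2 : conj (2 : ℂ) = 2 := map_ofNat (starRingEnd ℂ) 2
    have h1 : (2 : ℂ)⁻¹ • (v + K v) ∈ W := by
      rw [hmem, hsmul, hadd, hK, add_comm (K v) v, map_inv₀, hc2]
    have h2 : (2 * Complex.I : ℂ)⁻¹ • (v - K v) ∈ W := by
      rw [hmem, hsmul, sub_eq_add_neg, hadd]
      have h3 : K (-K v) = -v := by
        have := hsmul (-1) (K v)
        simpa [hK] using this
      rw [h3]
      have h4 : conj ((2 * Complex.I : ℂ)⁻¹) = -(2 * Complex.I : ℂ)⁻¹ := by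
        rw [map_inv₀, map_mul, Complex.conj_I, hc2, mul_neg, inv_neg]
      rw [h4, neg_smul, ← smul_neg]
      congr 1
      abel
    have h5 : v = (2 : ℂ)⁻¹ • (v + K v) + Complex.I • ((2 * Complex.I : ℂ)⁻¹ • (v - K v)) := by
      rw [smul_smul]
      have : Complex.I * (2 * Complex.I : ℂ)⁻¹ = (2 : ℂ)⁻¹ := by
        field_simp
      rw [this, ← smul_add]
      have h6 : v + K v + (v - K v) = (2 : ℂ) • v := by
        rw [two_smul]
        abel
      rw [h6, smul_smul]
      norm_num
    rw [h5]
    exact Submodule.add_mem _ (hWspan ⟨_, h1⟩) (Submodule.smul_mem _ _ (hWspan ⟨_, h2⟩))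
  let B : Module.Basis (Fin m) ℂ (Fin n → ℂ) := Module.Basis.mk hli hsp
  have hB : ∀ i, B i = ((b i : W) : Fin n → ℂ) := fun i => Module.Basis.mk_apply hli hsp i
  let τ : Representation ℝ G (Fin m → ℝ) :=
    { toFun := fun g => b.equivFun.conj (σ g)
      map_one' := by
        rw [map_one]
        exact LinearEquiv.conj_id _
      map_mul' := by
        intro g h
        rw [map_mul]
        exact LinearEquiv.conj_comp _ _ _ }
  refine ⟨m, τ, ?_⟩
  intro g
  have h1 : LinearMap.trace ℝ (Fin m → ℝ) (τ g) = LinearMap.trace ℝ W (σ g) :=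
    LinearMap.trace_conj' _ _
  rw [h1, Representation.character, LinearMap.trace_eq_matrix_trace ℝ b (σ g),
    LinearMap.trace_eq_matrix_trace ℂ B (ρ g), Matrix.trace, Matrix.trace, Complex.ofReal_sum]
  refine Finset.sum_congr rfl fun j _ => ?_
  rw [Matrix.diag_apply, Matrix.diag_apply, LinearMap.toMatrix_apply, LinearMap.toMatrix_apply]
  have h2 : ρ g (B j) = ∑ i, ((b.repr (σ g (b j)) i : ℝ) : ℂ) • B i := by
    rw [hB, ← hσ]
    conv_lhs => rw [← b.sum_repr (σ g (b j)), Submodule.coe_sum]
    refine Finset.sum_congr rfl fun i _ => ?_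
    rw [Submodule.coe_smul, hrs, hB]
  rw [h2, B.repr_sum_self]

end Cfsg.Agent.H600.RealForm
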